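/-
helper51: S4504-[B-RED] (helper79 sheet `Lib/Helper79/S4504/SPINE4504.md`):
faithful reduction mod `p` of a faithful irreducible character of a group with `O_p(G) = 1`.
-/
import Mathlib
import Cfsg.Prelude.Def_Blocks
import Cfsg.Prelude.Def_Classical
import Cfsg.Agent.Lib.Helper79.ModP.Defs
import Cfsg.Agent.Lib.Helper80.BC.IntegralRep
import Cfsg.Agent.Lib.Helper80.BC.SchurRel
import Cfsg.Agent.Lib.Helper80.BC.Teich
import Cfsg.Agent.Lib.Helper80.BC.ValRing
import Cfsg.Agent.Lib.Helper77.ModResidue
import Cfsg.Agent.Lib.Helper75.PQRDegree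
import Cfsg.Agent.Lib.Helper80.CharBasic

set_option autoImplicit false
set_option linter.style.haveILetI false
set_option linter.unusedSectionVars false

open Cfsg Cfsg.Agent.Lib.Helper79.ModP

universe u

namespace Cfsg.Agent.Lib.Helper51.S4504

open Cfsg.Agent.Lib.Helper16 Cfsg.Agent.Lib.Helper77.Modular Cfsg.Agent.Lib.Helper80.BC Polynomial

section Residue

variable (M : Ideal AlgInt) [hMp : M.IsPrime]

/-- every element of the residue field is a root of a nonzero polynomial with integer
coefficients -/
theorem exists_int_poly_root (a : ResF M) :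
    ∃ f : ℤ[X], f.map (Int.castRingHom (ResF M)) ≠ 0 ∧
      eval₂ (Int.castRingHom (ResF M)) a f = 0 := by
  obtain ⟨z, rfl⟩ := Ideal.Quotient.mk_surjective a
  obtain ⟨f₀, hf₀, hz⟩ := isAlgebraic_of_mem_localSubring M z.2
  -- primitive part
  have hc : f₀.content ≠ 0 := by
    rwa [Ne, Polynomial.content_eq_zero_iff]
  set f := f₀.primPart with hf
  have hprim : f.IsPrimitive := f₀.isPrimitive_primPart
  have hzf : aeval (z : ℂ) f = 0 := by
    have h1 : f₀ = C f₀.content * f := f₀.eq_C_content_mul_primPart
    rw [h1, map_mul, aeval_C] at hz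
    rcases mul_eq_zero.mp hz with h | h
    · exfalso
      apply hc
      have : ((f₀.content : ℤ) : ℂ) = 0 := by simpa using h
      exact_mod_cast this
    · exact h
  obtain ⟨j, hj⟩ := exists_coeff_not_mem_of_isPrimitive M hprim
  refine ⟨f, ?_, ?_⟩
  · intro h0
    have h1 := congrArg (fun g => Polynomial.coeff g j) h0
    simp only [coeff_map, coeff_zero] at h1
    apply hj
    have h2 : (Int.castRingHom (ResF M)) (f.coeff j) = red M (algIntToLocal M ((f.coeff j : ℤ) : AlgInt)) := by
      have : (Int.castRingHom (ResF M)) = ((red M).comp (algIntToLocal M)).comp (Int.castRingHom AlgInt) :=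
        RingHom.ext_int _ _
      rw [this]
      rfl
    rw [h2, Ideal.Quotient.eq_zero_iff_mem, mem_localIdeal] at h1
    exact memLocalIdeal_coe_iff.mp h1
  · have h1 : eval₂ (Int.castRingHom (localSubring M)) z f = 0 := by
      apply Subtype.ext
      have h2 := Polynomial.hom_eval₂ f (Int.castRingHom (localSubring M)) (localSubring M).subtype z
      have h3 : ((localSubring M).subtype).comp (Int.castRingHom (localSubring M)) =
          Int.castRingHom ℂ := RingHom.ext_int _ _
      rw [h3] at h2
      change (localSubring M).subtype (eval₂ (Int.castRingHom (localSubring M)) z f) = 0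
      rw [h2]
      have h4 : aeval (z : ℂ) f = eval₂ (Int.castRingHom ℂ) ((localSubring M).subtype z) f := by
        rw [aeval_def]
        rfl
      rw [← h4, hzf]
    have h2 := Polynomial.hom_eval₂ f (Int.castRingHom (localSubring M)) (red M) z
    have h3 : (red M).comp (Int.castRingHom (localSubring M)) = Int.castRingHom (ResF M) :=
      RingHom.ext_int _ _
    rw [h3, h1, map_zero] at h2
    exact h2.symm

end Residue

/-- in a field of characteristic `p` an element that is a root of a nonzero integer polynomial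
lies in a finite subfield -/
theorem pow_p_pow_eq_self {F : Type*} [Field F] {p : ℕ} [hp : Fact p.Prime] [CharP F p] (a : F)
    (f : ℤ[X]) (hf : f.map (Int.castRingHom F) ≠ 0) (ha : eval₂ (Int.castRingHom F) a f = 0) :
    ∃ n : ℕ, 0 < n ∧ a ^ (p ^ n) = a := by
  classical
  letI : Algebra (ZMod p) F := ZMod.algebra F p
  set g : (ZMod p)[X] := f.map (Int.castRingHom (ZMod p)) with hg
  have hcomp : (algebraMap (ZMod p) F).comp (Int.castRingHom (ZMod p)) = Int.castRingHom F :=
    RingHom.ext_int _ _
  have hgmap : g.map (algebraMap (ZMod p) F) = f.map (Int.castRingHom F) := by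
    rw [hg, Polynomial.map_map, hcomp]
  have hg0 : g ≠ 0 := by
    intro h0
    apply hf
    rw [← hgmap, h0, Polynomial.map_zero]
  have hga : aeval a g = 0 := by
    rw [aeval_def, hg, eval₂_map, hcomp]
    exact ha
  have halg : IsAlgebraic (ZMod p) a := ⟨g, hg0, hga⟩
  have hint : IsIntegral (ZMod p) a := halg.isIntegral
  set K' := IntermediateField.adjoin (ZMod p) ({a} : Set F) with hK'
  haveI : FiniteDimensional (ZMod p) K' := IntermediateField.adjoin.finiteDimensional hint
  haveI : Finite K' := Module.finite_of_finite (ZMod p)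
  haveI : Fintype K' := Fintype.ofFinite K'
  haveI : CharP K' p := by
    exact charP_of_injective_algebraMap (algebraMap (ZMod p) K').injective p
  obtain ⟨n, -, hn⟩ := FiniteField.card K' p
  refine ⟨n, n.2, ?_⟩
  have hmem : a ∈ K' := IntermediateField.mem_adjoin_simple_self (ZMod p) a
  have h1 := FiniteField.pow_card (⟨a, hmem⟩ : K')
  rw [hn] at h1
  have h2 := congrArg (fun x : K' => (x : F)) h1
  simpa using h2

theorem pow_eq_zero_iff_of_pos_aux {F : Type*} [Field F] {x : F} {n : ℕ} (h : x ^ n = 0) : x = 0 := by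
  rcases Nat.eq_zero_or_pos n with hn | hn
  · subst hn
    simp at h
  · exact (pow_eq_zero_iff hn.ne').mp h

section Faithful

variable {G : Type u} [Group G] [Finite G]

/-- a `p`-regular element acting trivially mod the maximal ideal acts trivially -/
theorem localRep_eq_one_of_red_eq_one {p : ℕ} (M : Ideal AlgInt) (hM : IsPModular p M)
    [hMp : M.IsPrime] {n : ℕ} (ρ : G →* Matrix (Fin n) (Fin n) (localSubring M)) (g : G)
    (hg : ¬ p ∣ orderOf g) (hτ : mapRep (red M) ρ g = 1) : ρ g = 1 := by
  classical
  haveI := resF_charP hM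
  set m := orderOf g with hm
  set A := ρ g with hA
  have hAm : A ^ m = 1 := by
    rw [hA, ← map_pow, hm, pow_orderOf_eq_one, map_one]
  set Q : Matrix (Fin n) (Fin n) (localSubring M) := ∑ i ∈ Finset.range m, A ^ i with hQ
  have h1 : (A - 1) * Q = 0 := by
    rw [hQ, mul_geom_sum, hAm, sub_self]
  have hredA : (red M).mapMatrix A = 1 := hτ
  have hredQ : (red M).mapMatrix Q = (m : Matrix (Fin n) (Fin n) (ResF M)) := by
    rw [hQ, map_sum]
    simp only [map_pow, hredA, one_pow, Finset.sum_const, Finset.card_range, nsmul_eq_mul, mul_one]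
  have hdet : red M Q.det = (m : ResF M) ^ n := by
    rw [RingHom.map_det, hredQ]
    have : (m : Matrix (Fin n) (Fin n) (ResF M)) = (m : ResF M) • (1 : Matrix (Fin n) (Fin n) (ResF M)) := by
      ext i j
      by_cases hij : i = j
      · subst hij
        simp [Matrix.natCast_apply]
      · simp [Matrix.natCast_apply, hij]
    rw [this, Matrix.det_smul, Matrix.det_one, mul_one, Fintype.card_fin]
  have hm0 : (m : ResF M) ≠ 0 := by
    intro h0
    exact hg ((CharP.cast_eq_zero_iff (ResF M) p m).mp h0)
  have hunit : IsUnit Q.det := by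
    apply isUnit_of_not_mem_localIdeal
    intro hmem
    have : red M Q.det = 0 := Ideal.Quotient.eq_zero_iff_mem.mpr hmem
    rw [hdet] at this
    exact hm0 (pow_eq_zero_iff_of_pos_aux this)
  have hQunit : IsUnit Q := (Matrix.isUnit_iff_isUnit_det Q).mpr hunit
  have h2 : A - 1 = 0 := (hQunit.mul_left_eq_zero).mp h1
  exact sub_eq_zero.mp h2

/-- MODULE S4504-[B-RED] -/
theorem exists_faithful_modular {G : Type u} [Group G] [Finite G] {p : ℕ} (hp : p.Prime)
    (hOp : ∀ H : Subgroup G, H.Normal → IsPGroup p H → H = ⊥)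
    {χ : G → ℂ} (hχ : IsIrrCharacter G χ) (hfaith : ∀ g : G, χ g = χ 1 → g = 1) :
    ∃ (F : Type) (_ : Field F) (_ : IsAlgClosed F) (_ : CharP F p),
      (∀ a : F, ∃ n : ℕ, 0 < n ∧ a ^ (p ^ n) = a) ∧
      ∃ τ : G →* Matrix (Fin (charDegree χ)) (Fin (charDegree χ)) F, Function.Injective τ := by
  classical
  haveI : Fact p.Prime := ⟨hp⟩
  obtain ⟨M, hM⟩ := Cfsg.Agent.Lib.Helper75.exists_isPModular p hp
  haveI hMp : M.IsPrime := isPModular_isPrime hM
  haveI hchar : CharP (ResF M) p := resF_charP hM
  refine ⟨ResF M, inferInstance, inferInstance, hchar, ?_, ?_⟩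
  · intro a
    obtain ⟨f, hf, ha⟩ := exists_int_poly_root M a
    exact pow_p_pow_eq_self a f hf ha
  · obtain ⟨n, ρ, hρ⟩ := exists_localRep_of_isIrr M hχ
    have hn : charDegree χ = n := by
      apply Cfsg.Agent.Lib.Helper80.charDegree_natCast
      rw [← hρ 1, map_one, Matrix.trace_one, Fintype.card_fin]
      simp
    rw [hn]
    refine ⟨mapRep (red M) ρ, ?_⟩
    rw [← MonoidHom.ker_eq_bot_iff]
    apply hOp _ (MonoidHom.normal_ker _)
    intro x
    obtain ⟨k, m, hpm, hkm⟩ := Nat.exists_eq_pow_mul_and_not_dvd (orderOf_pos (x : G)).ne' p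
      hp.ne_one
    refine ⟨k, ?_⟩
    apply Subtype.ext
    rw [Subgroup.coe_pow, Subgroup.coe_one]
    set g' : G := (x : G) ^ p ^ k with hg'
    have hg'ker : mapRep (red M) ρ g' = 1 := by
      rw [hg', map_pow]
      have : mapRep (red M) ρ (x : G) = 1 := x.2
      rw [this, one_pow]
    have hord : ¬ p ∣ orderOf g' := by
      intro hdvd
      apply hpm
      have h1 : g' ^ m = 1 := by
        rw [hg', ← pow_mul, ← hkm, pow_orderOf_eq_one]
      exact hdvd.trans (orderOf_dvd_of_pow_eq_one h1)
    have h1 := localRep_eq_one_of_red_eq_one M hM ρ g' hord hg'ker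
    apply hfaith
    rw [← hρ g', ← hρ 1, h1, map_one]

end Faithful

end Cfsg.Agent.Lib.Helper51.S4504
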