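/-
helper51: S4504-[O3-PSL] (helper79 sheet `Lib/Helper79/S4504/SPINE4504.md`):
a group generated by elements of order `p` mapping to `O₃(K)` maps to `PSL₂(K)` with the same
kernel.
-/
import Mathlib
import Cfsg.Prelude.Def_Blocks
import Cfsg.Prelude.Def_Classical
import Cfsg.Agent.Lib.Helper79.ModP.Defs
import Cfsg.Agent.S0298
import Cfsg.Agent.Lib.Helper5.PSL2Small

set_option autoImplicit false

open Cfsg Cfsg.Agent.Lib.Helper79.ModP

universe u

namespace Cfsg.Agent.Lib.Helper51.S4504

open Matrix Cfsg.Agent.S0298 Cfsg.Agent.Lib.Helper5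
open scoped MatrixGroups

variable {K : Type*} [Field K] [Fintype K]

theorem two_ne_zero_of_odd (hodd : Odd (Fintype.card K)) : (2 : K) ≠ 0 := by
  have h : ringChar K ≠ 2 := by
    intro h
    have := FiniteField.even_card_iff_char_two.mp h
    rcases hodd with ⟨k, hk⟩
    omega
  exact Ring.two_ne_zero h

/-- `Ω₃(K)` is the image of `SL₂(K)` -/
theorem omega_eq_range (hodd : Odd (Fintype.card K)) :
    commutator (Cfsg.isometryGroup K (Cfsg.quadFormOdd 1 K)) = (psiO K).range := by
  have h2 := two_ne_zero_of_odd hodd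
  rw [commutator_eq_map_of_index_two (adjO K) (negO K) negO_mem_center (negO_not_mem_range h2)
    (adjO_range_index hodd)]
  rw [Cfsg.Agent.S0264.result 2 (fun _ => ⟨-1, by simp, fun h => h2 (by linear_combination (-1 : K) * h)⟩),
    det_ker_eq_range, MonoidHom.map_range]
  rfl

theorem card_range_mul_four (hodd : Odd (Fintype.card K)) :
    Nat.card (psiO K).range * 4 = Nat.card (Cfsg.isometryGroup K (Cfsg.quadFormOdd 1 K)) := by
  have h2 := two_ne_zero_of_odd hodd
  have h1 : Nat.card (psiO K).range * 2 = Nat.card SL(2, K) := by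
    rw [Nat.card_congr (QuotientGroup.quotientKerEquivRange (psiO K)).toEquiv.symm,
      Subgroup.card_eq_card_quotient_mul_card_subgroup (psiO K).ker, psiO_ker,
      card_center_SL2_of_two_ne_zero h2]
  rw [Cfsg.Agent.Lib.Helper5.card_isometryGroup_odd rfl hodd 1]
  simp only [one_pow, pow_one, Finset.range_one, Finset.prod_singleton, zero_add, mul_one]
  have h3 := Cfsg.Agent.Lib.Helper5.card_SL2 (F := K)
  rw [← h1] at h3
  rw [mul_assoc 2, ← h3]
  ring

theorem index_range (hodd : Odd (Fintype.card K)) : (psiO K).range.index = 4 := by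
  have h1 := (psiO K).range.card_mul_index
  rw [← card_range_mul_four hodd] at h1
  have hpos : 0 < Nat.card (psiO K).range := Nat.card_pos
  exact Nat.eq_of_mul_eq_mul_left hpos h1

/-- MODULE S4504-[O3-PSL] -/
theorem exists_psl_of_isometry {K : Type*} [Field K] [Fintype K] {p : ℕ} [Fact p.Prime] [CharP K p]
    (hp5 : 5 ≤ p) {G : Type*} [Group G] [Finite G]
    (Φ : G →* Cfsg.isometryGroup K (Cfsg.quadFormOdd 1 K))
    (hgen : Subgroup.closure {y : G | orderOf y = p} = ⊤) :
    ∃ φ : G →* Matrix.ProjectiveSpecialLinearGroup (Fin 2) K, φ.ker = Φ.ker := by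
  classical
  have hp : p.Prime := Fact.out
  have hpodd : Odd p := hp.odd_of_ne_two (by omega)
  have hodd : Odd (Fintype.card K) := by
    obtain ⟨f, -, hF⟩ := FiniteField.card K p
    rw [hF]
    exact hpodd.pow
  set N := commutator (Cfsg.isometryGroup K (Cfsg.quadFormOdd 1 K)) with hN
  have hNR : N = (psiO K).range := omega_eq_range hodd
  have hidx : N.index = 4 := by rw [hNR]; exact index_range hodd
  have hy : ∀ y : G, orderOf y = p → Φ y ∈ N := by
    intro y hyp
    have h1 : (Φ y) ^ p = 1 := by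
      rw [← map_pow, ← hyp, pow_orderOf_eq_one, map_one]
    have h2 : ((Φ y : Cfsg.isometryGroup K (Cfsg.quadFormOdd 1 K)) :
        Cfsg.isometryGroup K (Cfsg.quadFormOdd 1 K) ⧸ N) ^ p = 1 := by
      rw [← QuotientGroup.mk_pow, h1, QuotientGroup.mk_one]
    have h3 : ((Φ y : Cfsg.isometryGroup K (Cfsg.quadFormOdd 1 K)) :
        Cfsg.isometryGroup K (Cfsg.quadFormOdd 1 K) ⧸ N) ^ 4 = 1 := by
      have : Nat.card (Cfsg.isometryGroup K (Cfsg.quadFormOdd 1 K) ⧸ N) = 4 := by
        rw [← Subgroup.index_eq_card, hidx]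
      rw [← this]
      exact pow_card_eq_one'
    have h4 : orderOf ((Φ y : Cfsg.isometryGroup K (Cfsg.quadFormOdd 1 K)) :
        Cfsg.isometryGroup K (Cfsg.quadFormOdd 1 K) ⧸ N) ∣ Nat.gcd p 4 :=
      Nat.dvd_gcd (orderOf_dvd_of_pow_eq_one h2) (orderOf_dvd_of_pow_eq_one h3)
    have h5 : Nat.gcd p 4 = 1 := by
      have : Nat.Coprime p (2 ^ 2) := Nat.Coprime.pow_right 2
        ((Nat.coprime_primes hp Nat.prime_two).mpr (by omega))
      exact this
    rw [h5, Nat.dvd_one, orderOf_eq_one_iff, QuotientGroup.eq_one_iff] at h4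
    exact h4
  have hrange : ∀ g : G, Φ g ∈ (psiO K).range := by
    intro g
    rw [← hNR]
    have h1 : Φ.range ≤ N := by
      rw [MonoidHom.range_eq_map, ← hgen, MonoidHom.map_closure, Subgroup.closure_le]
      rintro _ ⟨y, hy', rfl⟩
      exact hy y hy'
    exact h1 ⟨g, rfl⟩
  let e : (psiO K).range ≃* Matrix.ProjectiveSpecialLinearGroup (Fin 2) K :=
    (QuotientGroup.quotientKerEquivRange (psiO K)).symm.trans
      (QuotientGroup.quotientMulEquivOfEq psiO_ker)
  refine ⟨e.toMonoidHom.comp (Φ.codRestrict (psiO K).range hrange), ?_⟩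
  ext g
  rw [MonoidHom.mem_ker, MonoidHom.mem_ker, MonoidHom.comp_apply]
  constructor
  · intro h
    have h1 : Φ.codRestrict (psiO K).range hrange g = 1 := by
      apply e.injective
      rw [map_one]
      exact h
    have := congrArg Subtype.val h1
    simpa using this
  · intro h
    have h1 : Φ.codRestrict (psiO K).range hrange g = 1 := by
      apply Subtype.ext
      simpa using h
    rw [h1, map_one]

end Cfsg.Agent.Lib.Helper51.S4504
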